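import Groth.Agent.Lib.SepFT3.Criterion
import Groth.Agent.Lib.FSFlat3.Forward
import Groth.Agent.Lib.FormalFib3.Basic

/-! Finite type algebras over separable extensions: formal smoothness. -/

set_option autoImplicit false
set_option linter.style.haveILetI false

universe u

open TensorProduct IsLocalRing KaehlerDifferential

namespace Groth.Agent.SepFT3

variable {k₀ k C : Type u} [Field k₀] [Field k] [Algebra k₀ k] [Algebra.FormallySmooth k₀ k] [CommRing C]
  [Algebra k C] [Algebra k₀ C] [IsScalarTower k₀ k C] [Algebra.FiniteType k C]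

theorem exists_presentation (k₀ k C : Type u) [Field k₀] [Field k] [Algebra k₀ k] [Algebra.FormallySmooth k₀ k] [CommRing C]
    [Algebra k C] [Algebra k₀ C] [IsScalarTower k₀ k C] [Algebra.FiniteType k C] :
    ∃ (P : Type u) (_ : CommRing P) (_ : Algebra k₀ P) (_ : IsNoetherianRing P) (_ : Algebra.FormallySmooth k₀ P)
      (π : P →ₐ[k₀] C), Function.Surjective π := by
  obtain ⟨n, φ, hφ⟩ := Algebra.FiniteType.iff_quotient_mvPolynomial''.1 ‹Algebra.FiniteType k C›
  haveI : Algebra.FormallySmooth k₀ (MvPolynomial (Fin n) k) := Algebra.FormallySmooth.comp k₀ k _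
  exact ⟨_, inferInstance, inferInstance, inferInstance, inferInstance, φ.restrictScalars k₀, hφ⟩

include k in
/-- Adic formal smoothness at a prime gives formal smoothness on a neighbourhood. -/
theorem exists_formallySmooth_away (p : Ideal C) [p.IsPrime]
    (h : CAlgX.IsAdicFormallySmooth k₀ (Localization.AtPrime p) (maximalIdeal (Localization.AtPrime p))) :
    ∃ f : C, f ∉ p ∧ Algebra.FormallySmooth k₀ (Localization.Away f) := by
  obtain ⟨P, _, _, _, _, π, hπ⟩ := exists_presentation k₀ k C
  obtain ⟨f, hf, ψ, hψ₁, hψ₂⟩ := exists_split_of_adicFS π hπ p h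
  exact ⟨π f, hf, formallySmooth_of_split π hπ ψ hψ₁ f hψ₂ (Submonoid.powers (π f))
    (IsLocalization.map_units _ (⟨π f, Submonoid.mem_powers _⟩ : Submonoid.powers (π f)))⟩

include k in
/-- Adic formal smoothness at all maximal ideals gives formal smoothness. -/
theorem formallySmooth_of_forall_adicFS
    (h : ∀ (m : Ideal C) [m.IsMaximal], CAlgX.IsAdicFormallySmooth k₀ (Localization.AtPrime m) (maximalIdeal (Localization.AtPrime m))) :
    Algebra.FormallySmooth k₀ C := by
  obtain ⟨P, _, _, _, _, π, hπ⟩ := exists_presentation k₀ k C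
  let I := RingHom.ker π.toRingHom
  let F : Ideal P :=
    { carrier := {f | ∃ ψ : Ω[P⁄k₀] →ₗ[P] P, (∀ w, ψ w ∈ I) ∧ ∀ y ∈ I, ψ (D k₀ P y) - f * y ∈ I * I}
      zero_mem' := ⟨0, fun w => I.zero_mem, fun y _ => by simp⟩
      add_mem' := by
        rintro a b ⟨ψ, h1, h2⟩ ⟨χ, h3, h4⟩
        refine ⟨ψ + χ, fun w => I.add_mem (h1 w) (h3 w), fun y hy => ?_⟩
        rw [LinearMap.add_apply, show ψ (D k₀ P y) + χ (D k₀ P y) - (a + b) * y =
          (ψ (D k₀ P y) - a * y) + (χ (D k₀ P y) - b * y) by ring]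
        exact add_mem (h2 y hy) (h4 y hy)
      smul_mem' := by
        rintro c a ⟨ψ, h1, h2⟩
        refine ⟨c • ψ, fun w => I.mul_mem_left c (h1 w), fun y hy => ?_⟩
        rw [LinearMap.smul_apply, smul_eq_mul, smul_eq_mul, show c * ψ (D k₀ P y) - c * a * y = c * (ψ (D k₀ P y) - a * y) by ring]
        exact Ideal.mul_mem_left _ _ (h2 y hy) }
  have hIF : I ≤ F := fun a ha => ⟨0, fun w => I.zero_mem, fun y hy => by
    rw [LinearMap.zero_apply, zero_sub]; exact neg_mem (Ideal.mul_mem_mul ha hy)⟩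
  have hF : F = ⊤ := by
    by_contra hne
    obtain ⟨M, hM, hFM⟩ := Ideal.exists_le_maximal F hne
    have hmax : (M.map π.toRingHom).IsMaximal := Ideal.IsMaximal.map_of_surjective_of_ker_le hπ (hIF.trans hFM)
    obtain ⟨f, hf, hfF⟩ := exists_split_of_adicFS π hπ (M.map π.toRingHom) (h _)
    exact hf (Ideal.mem_map_of_mem π.toRingHom (hFM hfF))
  obtain ⟨ψ, hψ₁, hψ₂⟩ := (hF ▸ Submodule.mem_top : (1 : P) ∈ F)
  haveI : IsLocalization (⊥ : Submonoid C) C := IsLocalization.self bot_le
  exact formallySmooth_of_split π hπ ψ hψ₁ 1 hψ₂ (⊥ : Submonoid C) (by simp)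

theorem adicFS_of_formallySmooth {R S : Type u} [CommRing R] [CommRing S] [Algebra R S] [Algebra.FormallySmooth R S]
    (J : Ideal S) : CAlgX.IsAdicFormallySmooth R S J := fun A _ _ K hK ψ _ => Algebra.FormallySmooth.comp_surjective R S K hK ψ

include k in
theorem adicFS_atPrime_iff (p : Ideal C) [p.IsPrime] :
    CAlgX.IsAdicFormallySmooth k₀ (Localization.AtPrime p) (maximalIdeal (Localization.AtPrime p)) ↔
      CAlg.IsGeometricallyRegular k₀ (Localization.AtPrime p) := by
  haveI : IsNoetherianRing C := Algebra.FiniteType.isNoetherianRing k C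
  haveI : IsNoetherianRing (Localization.AtPrime p) := IsLocalization.isNoetherianRing p.primeCompl _ inferInstance
  exact FSFlat3.adicFS_iff_geometricallyRegular

end Groth.Agent.SepFT3
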