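import Groth.Agent.Lib.AdicSmooth.FormallySmoothLocal
import Mathlib.RingTheory.Nakayama
import Mathlib.RingTheory.Smooth.Kaehler

/-!
Formal smoothness of quotients of formally smooth algebras with infinitely generated differentials.
-/

set_option autoImplicit false
set_option linter.style.haveILetI false

universe u

open TensorProduct IsLocalRing KaehlerDifferential

namespace Groth.Agent.SepFT3

/-- A relative retraction of the conormal map gives formal smoothness. -/
theorem formallySmooth_of_split {R P S T : Type u} [CommRing R] [CommRing P] [CommRing S] [CommRing T]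
    [Algebra R P] [Algebra R S] [Algebra.FormallySmooth R P] (π : P →ₐ[R] S) (hπ : Function.Surjective π)
    (ψ : Ω[P⁄R] →ₗ[P] P) (hψI : ∀ w, ψ w ∈ RingHom.ker π.toRingHom) (f : P)
    (hψ : ∀ y ∈ RingHom.ker π.toRingHom, ψ (D R P y) - f * y ∈ RingHom.ker π.toRingHom * RingHom.ker π.toRingHom)
    [Algebra S T] [Algebra R T] [IsScalarTower R S T] (M : Submonoid S) [IsLocalization M T]
    (hf : IsUnit (algebraMap S T (π f))) : Algebra.FormallySmooth R T := by
  rw [Algebra.FormallySmooth.iff_comp_surjective]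
  intro E _ _ J hJ u
  have hJnil : IsNilpotent J := ⟨2, hJ⟩
  let u₀ : P →ₐ[R] E ⧸ J := (u.comp (IsScalarTower.toAlgHom R S T)).comp π
  obtain ⟨v, hv⟩ := Algebra.FormallySmooth.comp_surjective R P J hJ u₀
  have hv' : ∀ p, Ideal.Quotient.mk J (v p) = u (algebraMap S T (π p)) := fun p => AlgHom.congr_fun hv p
  set I := RingHom.ker π.toRingHom with hI
  have hvI : ∀ y ∈ I, v y ∈ J := fun y hy => by
    rw [← Ideal.Quotient.eq_zero_iff_mem, hv', show π y = 0 from hy, map_zero, map_zero]
  have hJ2 : ∀ a ∈ J, ∀ b ∈ J, a * b = 0 := fun a ha b hb => by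
    have h1 : a * b ∈ J ^ 2 := by rw [pow_two]; exact Ideal.mul_mem_mul ha hb
    rwa [hJ] at h1
  have hII : ∀ z ∈ I * I, v z = 0 := fun z hz => by
    refine Submodule.mul_induction_on hz (fun a ha b hb => ?_) fun a b ha hb => by rw [map_add, ha, hb, add_zero]
    rw [map_mul]
    exact hJ2 _ (hvI a ha) _ (hvI b hb)
  have hunit : ∀ {p : P}, IsUnit (algebraMap S T (π p)) → IsUnit (v p) := fun {p} hp =>
    (IsNilpotent.isUnit_quotient_mk_iff hJnil).1 (by rw [hv']; exact hp.map u)
  obtain ⟨c, hc⟩ := (hunit hf).exists_right_inv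
  letI : Algebra P E := v.toRingHom.toAlgebra
  haveI : IsScalarTower R P E := .of_algebraMap_eq fun r => (v.commutes r).symm
  let d : Ω[P⁄R] →ₗ[P] E :=
    { toFun := fun w => c * v (ψ w)
      map_add' := fun a b => by simp [mul_add]
      map_smul' := fun p w => by
        show c * v (ψ (p • w)) = v p * (c * v (ψ w))
        rw [map_smul, smul_eq_mul, map_mul]; ring }
  have hdJ : ∀ w, d w ∈ J := fun w => J.mul_mem_left c (hvI _ (hψI w))
  let v' : P →ₐ[R] E :=
    { toFun := fun p => v p - d (D R P p)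
      map_one' := by simp
      map_mul' := fun a b => by
        rw [map_mul, Derivation.leibniz, map_add, map_smul, map_smul]
        have h2 := hJ2 _ (hdJ (D R P a)) _ (hdJ (D R P b))
        show v a * v b - (v a * d (D R P b) + v b * d (D R P a)) = _
        linear_combination (-1 : E) * h2
      map_zero' := by simp
      map_add' := fun a b => by simp only [map_add]; ring
      commutes' := fun r => by simp }
  have hv'I : ∀ y ∈ I, v' y = 0 := by
    intro y hy
    show v y - c * v (ψ (D R P y)) = 0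
    have h1 := hII _ (hψ y hy)
    rw [map_sub, map_mul, sub_eq_zero] at h1
    rw [h1, ← mul_assoc, mul_comm c, hc, one_mul, sub_self]
  let e := Ideal.quotientKerAlgEquivOfSurjective hπ
  let w₀ : S →ₐ[R] E := (Ideal.Quotient.liftₐ (RingHom.ker π) v' hv'I).comp e.symm.toAlgHom
  have hw₀ : ∀ p, w₀ (π p) = v' p := fun p => by
    show Ideal.Quotient.liftₐ (RingHom.ker π) v' hv'I (e.symm (π p)) = v' p
    rw [show e.symm (π p) = Ideal.Quotient.mk _ p by rw [AlgEquiv.symm_apply_eq]; rfl]
    rfl
  have hw₀J : ∀ s, Ideal.Quotient.mk J (w₀ s) = u (algebraMap S T s) := fun s => by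
    obtain ⟨p, rfl⟩ := hπ s
    rw [hw₀]
    show Ideal.Quotient.mk J (v p - d (D R P p)) = _
    rw [map_sub, Ideal.Quotient.eq_zero_iff_mem.2 (hdJ _), sub_zero, hv']
  have hu : ∀ y : M, IsUnit (w₀ y) := fun y => (IsNilpotent.isUnit_quotient_mk_iff hJnil).1 (by
    rw [hw₀J]; exact (IsLocalization.map_units T y).map u)
  refine ⟨IsLocalization.liftAlgHom hu, AlgHom.ext fun t => ?_⟩
  refine congrFun (congrArg DFunLike.coe (IsLocalization.ringHom_ext M
    (j := ((Ideal.Quotient.mkₐ R J).comp (IsLocalization.liftAlgHom hu)).toRingHom) (k := u.toRingHom) (RingHom.ext fun s => ?_))) t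
  show Ideal.Quotient.mk J (IsLocalization.liftAlgHom hu (algebraMap S T s)) = u (algebraMap S T s)
  rw [IsLocalization.liftAlgHom_apply, IsLocalization.lift_eq]
  exact hw₀J s

/-- Residual injectivity of the conormal map gives a retraction near the prime. -/
theorem exists_split {R P : Type u} [CommRing R] [CommRing P] [IsNoetherianRing P] [Algebra R P]
    [Module.Projective P Ω[P⁄R]] (I Q : Ideal P) [Q.IsPrime] (hIQ : I ≤ Q)
    (κ : Type u) [Field κ] [Algebra P κ] (hker : ∀ p, algebraMap P κ p = 0 ↔ p ∈ Q)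
    (hfrac : ∀ c : κ, ∃ a t, t ∉ Q ∧ c * algebraMap P κ t = algebraMap P κ a)
    (hinj : ∀ y ∈ I, (1 : κ) ⊗ₜ[P] D R P y = 0 → ∃ t ∉ Q, t * y ∈ Q * I) :
    ∃ f ∉ Q, ∃ ψ : Ω[P⁄R] →ₗ[P] P, (∀ w, ψ w ∈ I) ∧ ∀ y ∈ I, ψ (D R P y) - f * y ∈ I * I := by
  classical
  obtain ⟨G, hG⟩ := IsNoetherian.noetherian I
  let vv : G → κ ⊗[P] Ω[P⁄R] := fun y => 1 ⊗ₜ D R P y.1
  obtain ⟨b, hb, hsp, hli⟩ := exists_linearIndependent κ (Set.range vv)
  haveI : Finite b := Set.Finite.to_subtype ((Set.finite_range vv).subset hb)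
  obtain ⟨n, ⟨eb⟩⟩ := Finite.exists_equiv_fin b
  choose mm hmm using fun i : Fin n => hb (eb.symm i).2
  let m : Fin n → P := fun i => (mm i).1
  have hmI : ∀ i, m i ∈ I := fun i => hG.le (Submodule.subset_span (mm i).2)
  have hli' : LinearIndependent κ (fun i => vv (mm i)) := by
    rw [show (fun i => vv (mm i)) = Subtype.val ∘ eb.symm from funext hmm]
    exact hli.comp _ eb.symm.injective
  have hspan : Submodule.span κ (Set.range fun i => vv (mm i)) = Submodule.span κ (Set.range vv) := by
    rw [show (fun i => vv (mm i)) = Subtype.val ∘ eb.symm from funext hmm, eb.symm.surjective.range_comp,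
      Subtype.range_coe_subtype, Set.setOf_mem_eq, hsp]
  -- the chosen elements generate near `Q`
  let J := Ideal.span (Set.range m)
  have hJI : J ≤ I := Ideal.span_le.2 (by rintro _ ⟨i, rfl⟩; exact hmI i)
  have hgen : ∀ y : G, ∃ t ∉ Q, t * y.1 ∈ J ⊔ Q * I := by
    intro y
    have hy : vv y ∈ Submodule.span κ (Set.range fun i => vv (mm i)) := hspan ▸ Submodule.subset_span ⟨y, rfl⟩
    obtain ⟨c, hc⟩ := (Submodule.mem_span_range_iff_exists_fun κ).1 hy
    choose a t ht hat using fun i => hfrac (c i)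
    let T := ∏ i, t i
    have hT : T ∉ Q := fun h => by
      obtain ⟨i, -, hi⟩ := (Ideal.IsPrime.prod_mem_iff (hp := ‹Q.IsPrime›)).1 h
      exact ht i hi
    let a' : Fin n → P := fun i => a i * ∏ j ∈ Finset.univ.erase i, t j
    have ha' : ∀ i, algebraMap P κ (a' i) = c i * algebraMap P κ T := fun i => by
      simp only [a', T, map_mul]
      rw [← hat i, ← Finset.mul_prod_erase Finset.univ t (Finset.mem_univ i), map_mul, mul_assoc]
    have hxI : T * y.1 - ∑ i, a' i * m i ∈ I :=
      sub_mem (I.mul_mem_left _ (hG.le (Submodule.subset_span y.2))) (sum_mem fun i _ => I.mul_mem_left _ (hmI i))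
    have hD : ∀ (p q : P), q ∈ I → (1 : κ) ⊗ₜ[P] D R P (p * q) = algebraMap P κ p • ((1 : κ) ⊗ₜ[P] D R P q) := by
      intro p q hq
      rw [Derivation.leibniz, TensorProduct.tmul_add, TensorProduct.tmul_smul, TensorProduct.tmul_smul,
        ← algebraMap_smul κ q ((1 : κ) ⊗ₜ[P] D R P p), (hker q).2 (hIQ hq), zero_smul, add_zero, algebraMap_smul]
    have h0 : (1 : κ) ⊗ₜ[P] D R P (T * y.1 - ∑ i, a' i * m i) = 0 := by
      rw [map_sub, map_sum, TensorProduct.tmul_sub, TensorProduct.tmul_sum, hD _ _ (hG.le (Submodule.subset_span y.2)),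
        sub_eq_zero, Finset.sum_congr rfl fun i _ => hD _ _ (hmI i)]
      show algebraMap P κ T • vv y = ∑ i, algebraMap P κ (a' i) • vv (mm i)
      rw [← hc, Finset.smul_sum]
      exact Finset.sum_congr rfl fun i _ => by rw [smul_smul, ha', mul_comm]
    obtain ⟨s, hs, hsx⟩ := hinj _ hxI h0
    refine ⟨s * T, fun h => (‹Q.IsPrime›.mem_or_mem h).elim hs hT, ?_⟩
    rw [show s * T * y.1 = s * (∑ i, a' i * m i) + s * (T * y.1 - ∑ i, a' i * m i) by ring]
    exact add_mem (Ideal.mem_sup_left (J.mul_mem_left _ (sum_mem fun i _ => J.mul_mem_left _ (Ideal.subset_span ⟨i, rfl⟩))))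
      (Ideal.mem_sup_right hsx)
  let L := Localization.AtPrime Q
  have hIJ : I.map (algebraMap P L) ≤ J.map (algebraMap P L) := by
    refine Submodule.le_of_le_smul_of_le_jacobson_bot (Ideal.FG.map (IsNoetherian.noetherian I) _)
      (IsLocalRing.maximalIdeal_le_jacobson _) ?_
    refine (congrArg (Ideal.map (algebraMap P L)) hG.symm).trans_le ?_
    rw [show Submodule.span P (G : Set P) = Ideal.span (G : Set P) from rfl, Ideal.map_span, Ideal.span_le]
    rintro _ ⟨y, hy, rfl⟩
    obtain ⟨t, ht, hty⟩ := hgen ⟨y, hy⟩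
    have h1 := Ideal.mem_map_of_mem (algebraMap P L) hty
    rw [Ideal.map_sup, Ideal.map_mul, map_mul, Localization.AtPrime.map_eq_maximalIdeal] at h1
    show algebraMap P L y ∈ J.map (algebraMap P L) ⊔ maximalIdeal L • (I.map (algebraMap P L))
    rw [smul_eq_mul]
    exact (Ideal.unit_mul_mem_iff_mem _ (IsLocalization.map_units L (⟨t, ht⟩ : Q.primeCompl))).1 h1
  have hgen2 : ∀ y : G, ∃ t ∉ Q, t * y.1 ∈ J := by
    intro y
    obtain ⟨⟨⟨j, hj⟩, s⟩, hjs⟩ := (IsLocalization.mem_map_algebraMap_iff Q.primeCompl L).1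
      (hIJ (Ideal.mem_map_of_mem _ (hG.le (Submodule.subset_span y.2) : (y : P) ∈ I)))
    rw [← map_mul, IsLocalization.eq_iff_exists Q.primeCompl L] at hjs
    obtain ⟨c, hc⟩ := hjs
    refine ⟨c.1 * s.1, (c * s).2, ?_⟩
    rw [show c.1 * s.1 * y.1 = c.1 * (y.1 * s.1) by ring, hc]
    exact J.mul_mem_left _ hj
  choose t ht hty using hgen2
  let g := ∏ y, t y
  have hg : g ∉ Q := fun h => by
    obtain ⟨i, -, hi⟩ := (Ideal.IsPrime.prod_mem_iff (hp := ‹Q.IsPrime›)).1 h
    exact ht i hi
  have hgI : ∀ y ∈ I, g * y ∈ J := by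
    intro y hy
    rw [← hG] at hy
    refine Submodule.span_induction (p := fun y _ => g * y ∈ J) ?_ ?_ ?_ ?_ hy
    · intro z hz
      rw [show g = (∏ y ∈ Finset.univ.erase (⟨z, hz⟩ : G), t y) * t ⟨z, hz⟩ from
        (Finset.prod_erase_mul _ _ (Finset.mem_univ _)).symm, mul_assoc]
      exact J.mul_mem_left _ (hty ⟨z, hz⟩)
    · simp
    · intro a b _ _ ha hb; rw [mul_add]; exact add_mem ha hb
    · intro a b _ hb; rw [smul_eq_mul, mul_left_comm]; exact J.mul_mem_left _ hb
  -- functionals
  obtain ⟨σ, hσ⟩ := Module.projective_def'.1 (inferInstance : Module.Projective P Ω[P⁄R])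
  obtain ⟨ν, hν⟩ := LinearMap.exists_extend (hli'.repr : _ →ₗ[κ] (Fin n →₀ κ))
  let T : Finset Ω[P⁄R] := Finset.univ.biUnion fun i => (σ (D R P (m i))).support
  let val : Fin n × T → κ := fun jw => ν ((1 : κ) ⊗ₜ[P] (jw.2 : Ω[P⁄R])) jw.1
  choose a s hs has using fun jw => hfrac (val jw)
  let B := ∏ jw, s jw
  have hB : B ∉ Q := fun h => by
    obtain ⟨i, -, hi⟩ := (Ideal.IsPrime.prod_mem_iff (hp := ‹Q.IsPrime›)).1 h
    exact hs i hi
  let a' : Fin n × T → P := fun jw => a jw * ∏ x ∈ Finset.univ.erase jw, s x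
  have ha' : ∀ jw, algebraMap P κ (a' jw) = val jw * algebraMap P κ B := fun jw => by
    simp only [a', B, map_mul]
    rw [← has jw, ← Finset.mul_prod_erase Finset.univ s (Finset.mem_univ jw), map_mul, mul_assoc]
  let lam : Fin n → Ω[P⁄R] →ₗ[P] P := fun j => ∑ w : T, a' (j, w) • (Finsupp.lapply (w : Ω[P⁄R])).comp σ
  let E : Matrix (Fin n) (Fin n) P := fun j i => lam j (D R P (m i))
  have hE : (algebraMap P κ).mapMatrix E = algebraMap P κ B • (1 : Matrix (Fin n) (Fin n) κ) := by
    ext j i
    rw [RingHom.mapMatrix_apply, Matrix.map_apply, Matrix.smul_apply, Matrix.one_apply]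
    simp only [E, lam, LinearMap.sum_apply, LinearMap.smul_apply, LinearMap.comp_apply, Finsupp.lapply_apply,
      smul_eq_mul, map_sum, map_mul, ha']
    have h1 : D R P (m i) = ∑ w : T, (σ (D R P (m i))) w • (w : Ω[P⁄R]) := by
      conv_lhs => rw [← LinearMap.id_apply (R := P) (D R P (m i)), ← hσ]
      rw [LinearMap.comp_apply, Finsupp.linearCombination_apply,
        Finsupp.sum_of_support_subset _ (Finset.subset_biUnion_of_mem (fun i => (σ (D R P (m i))).support) (Finset.mem_univ i)) _ (by simp),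
        ← Finset.sum_coe_sort]
      rfl
    have h2 : ν (vv (mm i)) = Finsupp.single i 1 := by
      have h3 := LinearMap.congr_fun hν ⟨vv (mm i), Submodule.subset_span ⟨i, rfl⟩⟩
      rw [LinearMap.comp_apply, Submodule.subtype_apply] at h3
      rw [h3]
      exact hli'.repr_eq_single i _ rfl
    have h4 : ν (vv (mm i)) j = ∑ w : T, algebraMap P κ ((σ (D R P (m i))) w) * val (j, w) := by
      show ν ((1 : κ) ⊗ₜ[P] D R P (m i)) j = _
      conv_lhs => rw [h1]
      rw [TensorProduct.tmul_sum, map_sum, Finsupp.finsetSum_apply]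
      refine Finset.sum_congr rfl fun w _ => ?_
      rw [TensorProduct.tmul_smul, ← algebraMap_smul κ, map_smul, Finsupp.smul_apply, smul_eq_mul]
    rw [h2, Finsupp.single_apply] at h4
    calc ∑ w : T, val (j, w) * algebraMap P κ B * algebraMap P κ ((σ (D R P (m i))) w)
        = algebraMap P κ B * ∑ w : T, algebraMap P κ ((σ (D R P (m i))) w) * val (j, w) := by
          rw [Finset.mul_sum]; exact Finset.sum_congr rfl fun w _ => by ring
      _ = _ := by rw [← h4]; by_cases hij : i = j <;> simp [hij, Ne.symm]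
  have hdet : E.det ∉ Q := by
    rw [← hker, RingHom.map_det, hE, Matrix.det_smul, Matrix.det_one, mul_one]
    exact pow_ne_zero _ fun h => hB ((hker B).1 h)
  refine ⟨g * E.det, fun h => (‹Q.IsPrime›.mem_or_mem h).elim hg hdet,
    g • ∑ i, (∑ j, E.adjugate i j • lam j).smulRight (m i), fun w => ?_, fun y hy => ?_⟩
  · rw [LinearMap.smul_apply, LinearMap.sum_apply, smul_eq_mul]
    refine I.mul_mem_left _ (sum_mem fun i _ => ?_)
    rw [LinearMap.smulRight_apply, smul_eq_mul]
    exact I.mul_mem_left _ (hmI i)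
  · set φ : Ω[P⁄R] →ₗ[P] P := ∑ i, (∑ j, E.adjugate i j • lam j).smulRight (m i) with hφ
    have hφI : ∀ w, φ w ∈ I := fun w => by
      rw [hφ, LinearMap.sum_apply]
      exact sum_mem fun i _ => by rw [LinearMap.smulRight_apply, smul_eq_mul]; exact I.mul_mem_left _ (hmI i)
    have hφm : ∀ k, φ (D R P (m k)) = E.det * m k := fun k => by
      have h1 : ∀ i, ∑ j, E.adjugate i j * lam j (D R P (m k)) = (E.det • (1 : Matrix (Fin n) (Fin n) P)) i k := fun i => by
        rw [← E.adjugate_mul]; rfl
      simp only [hφ, LinearMap.sum_apply, LinearMap.smulRight_apply, LinearMap.smul_apply, smul_eq_mul, h1,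
        Matrix.smul_apply, Matrix.one_apply]
      simp
    obtain ⟨c, hc⟩ := (Submodule.mem_span_range_iff_exists_fun P).1 (hgI y hy)
    have h3 : ∀ p q, q ∈ I → φ (D R P (p * q)) - p * φ (D R P q) ∈ I * I := fun p q hq => by
      rw [Derivation.leibniz, map_add, map_smul, map_smul, smul_eq_mul, smul_eq_mul, add_sub_cancel_left]
      exact Ideal.mul_mem_mul hq (hφI _)
    rw [LinearMap.smul_apply, smul_eq_mul,
      show g * φ (D R P y) - g * E.det * y = (φ (D R P (g * y)) - g * E.det * y) - (φ (D R P (g * y)) - g * φ (D R P y)) by ring]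
    refine sub_mem ?_ (h3 g y hy)
    rw [show g * E.det * y = E.det * (g * y) by ring, ← hc, map_sum, map_sum, Finset.mul_sum, ← Finset.sum_sub_distrib]
    refine sum_mem fun i _ => ?_
    rw [smul_eq_mul, show E.det * (c i * m i) = c i * φ (D R P (m i)) by rw [hφm]; ring]
    exact h3 _ _ (hmI i)

/-- The conormal map of an adically formally smooth local quotient is residually injective. -/
theorem mem_mul_of_tensor_eq_zero {R S P : Type u} [CommRing R] [CommRing S] [IsLocalRing S]
    [Algebra R S] [CommRing P] [IsLocalRing P] [IsNoetherianRing P] [Algebra R P] [Algebra P S]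
    [IsScalarTower R P S] (hs : Function.Surjective (algebraMap P S))
    (h : CAlgX.IsAdicFormallySmooth R S (maximalIdeal S)) (x : RingHom.ker (algebraMap P S))
    : (1 : ResidueField S) ⊗ₜ[P] D R P x.1 = 0 → x.1 ∈ maximalIdeal P * RingHom.ker (algebraMap P S) := by
  let κ := ResidueField S
  have hκs : Function.Surjective (algebraMap P κ) := by
    rw [IsScalarTower.algebraMap_eq P S κ]
    exact IsLocalRing.residue_surjective.comp hs
  have hloc : IsLocalHom (algebraMap P S) := IsLocalHom.of_surjective _ hs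
  have hκker : ∀ p, algebraMap P κ p = 0 ↔ p ∈ maximalIdeal P := fun p => by
    rw [IsScalarTower.algebraMap_apply P S κ]
    show residue S _ = 0 ↔ _
    rw [residue_eq_zero_iff]
    exact ⟨fun h hu => h (hu.map _), fun h hu => h ((isUnit_map_iff _ _).1 hu)⟩
  let I : Ideal P := RingHom.ker (algebraMap P S)
  have hIm : I ≤ maximalIdeal P := fun p hp hu => not_isUnit_zero ((hp : algebraMap P S p = 0) ▸ hu.map _)
  intro hz
  have key : ∀ k : ℕ, x.1 ∈ maximalIdeal P * I ⊔ maximalIdeal P ^ (k + 1) := by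
    intro k
    set L := maximalIdeal P * I ⊔ maximalIdeal P ^ (k + 1) with hLdef
    let q : P →ₐ[R] P ⧸ L := Ideal.Quotient.mkₐ R L
    let J : Ideal (P ⧸ L) := I.map (Ideal.Quotient.mk L)
    have hmJ : ∀ a ∈ maximalIdeal P, ∀ j ∈ J, q a * j = 0 := by
      intro a ha j hj
      obtain ⟨i, hi, rfl⟩ := (Ideal.mem_map_iff_of_surjective _ Ideal.Quotient.mk_surjective).1 hj
      show Ideal.Quotient.mk L a * Ideal.Quotient.mk L i = 0
      rw [← map_mul, Ideal.Quotient.eq_zero_iff_mem]
      exact Ideal.mem_sup_left (Ideal.mul_mem_mul ha hi)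
    have hJ : J ^ 2 = ⊥ := by
      rw [pow_two, eq_bot_iff, Ideal.mul_le]
      intro a ha b hb
      obtain ⟨i, hi, rfl⟩ := (Ideal.mem_map_iff_of_surjective _ Ideal.Quotient.mk_surjective).1 ha
      exact Ideal.mem_bot.2 (hmJ i (hIm hi) b hb)
    let φ := IsScalarTower.toAlgHom R P S
    have hφ : Function.Surjective φ := hs
    let e := Ideal.quotientKerAlgEquivOfSurjective hφ
    let ψ₀ : (P ⧸ RingHom.ker φ) →ₐ[R] (P ⧸ L) ⧸ J :=
      Ideal.Quotient.liftₐ _ ((Ideal.Quotient.mkₐ R J).comp q) fun p hp =>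
        Ideal.Quotient.eq_zero_iff_mem.2 (Ideal.mem_map_of_mem _ hp)
    let ψ : S →ₐ[R] (P ⧸ L) ⧸ J := ψ₀.comp e.symm.toAlgHom
    have hψ : ∀ p, ψ (algebraMap P S p) = Ideal.Quotient.mk J (q p) := fun p => by
      show ψ₀ (e.symm (φ p)) = _
      rw [show e.symm (φ p) = Ideal.Quotient.mk _ p by rw [AlgEquiv.symm_apply_eq]; rfl]
      rfl
    obtain ⟨χ, hχ⟩ := h (P ⧸ L) J hJ ψ ⟨k + 1, fun s hs' => by
      rw [← IsLocalRing.map_maximalIdeal_of_surjective _ hs, ← Ideal.map_pow] at hs'
      obtain ⟨p, hp, rfl⟩ := (Ideal.mem_map_iff_of_surjective _ hs).1 hs'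
      rw [hψ, show q p = 0 from Ideal.Quotient.eq_zero_iff_mem.2 (Ideal.mem_sup_right hp), map_zero]⟩
    let g : P →ₐ[R] P ⧸ L := χ.comp φ
    have hqg : ∀ p, q p - g p ∈ J := fun p => by
      rw [← Ideal.Quotient.eq_zero_iff_mem, map_sub, sub_eq_zero, ← hψ]
      exact (AlgHom.congr_fun hχ _).symm
    let d : Derivation R P (P ⧸ L) :=
      { toLinearMap := q.toLinearMap - g.toLinearMap
        map_one_eq_zero' := by simp
        leibniz' := fun a b => by
          show q (a * b) - g (a * b) = q a * (q b - g b) + q b * (q a - g a)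
          have h2 : (q b - g b) * (q a - g a) = 0 := by
            have := Ideal.mul_mem_mul (hqg b) (hqg a)
            rw [← pow_two, hJ] at this
            exact this
          rw [map_mul, map_mul]
          linear_combination (-1 : P ⧸ L) * h2 }
    let dl := d.liftKaehlerDifferential
    have hdl : ∀ w, dl w ∈ J := by
      intro w
      have hw : w ∈ Submodule.span P (Set.range (D R P)) := by rw [span_range_derivation]; trivial
      induction hw using Submodule.span_induction with
      | mem _ hy =>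
        obtain ⟨a, rfl⟩ := hy
        rw [Derivation.liftKaehlerDifferential_comp_D]
        exact hqg a
      | zero => rw [map_zero]; exact J.zero_mem
      | add a b _ _ ha hb => rw [map_add]; exact J.add_mem ha hb
      | smul a b _ hb => rw [map_smul]; exact J.mul_mem_left (q a) hb
    let hh : P →ₗ[P] (Ω[P⁄R] →ₗ[P] P ⧸ L) := LinearMap.toSpanSingleton P _ dl
    have hker : LinearMap.ker (Algebra.linearMap P κ) ≤ LinearMap.ker hh := fun p hp => by
      refine LinearMap.ext fun w => ?_
      show q p * dl w = 0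
      exact hmJ p ((hκker p).1 hp) _ (hdl w)
    let lam : κ ⊗[P] Ω[P⁄R] →ₗ[P] P ⧸ L := TensorProduct.lift
      (((LinearMap.ker (Algebra.linearMap P κ)).liftQ hh hker).comp
        (LinearMap.quotKerEquivOfSurjective (Algebra.linearMap P κ) hκs).symm.toLinearMap)
    have hlam : ∀ w, lam ((1 : κ) ⊗ₜ w) = dl w := fun w => by
      have h1 : (LinearMap.quotKerEquivOfSurjective (Algebra.linearMap P κ) hκs).symm 1 =
          Submodule.Quotient.mk 1 := by
        rw [LinearEquiv.symm_apply_eq]
        exact (map_one (algebraMap P κ)).symm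
      show ((LinearMap.ker (Algebra.linearMap P κ)).liftQ hh hker)
        ((LinearMap.quotKerEquivOfSurjective (Algebra.linearMap P κ) hκs).symm 1) w = _
      rw [h1]
      show (1 : P) • dl w = _
      rw [one_smul]
    have h0 : d x.1 = 0 := by
      rw [← Derivation.liftKaehlerDifferential_comp_D d x.1, ← hlam]
      exact (congrArg lam hz).trans (map_zero lam)
    have hg : g x.1 = 0 := by
      show χ (φ x.1) = 0
      rw [show φ x.1 = 0 from x.2, map_zero]
    have h1 : q x.1 - g x.1 = 0 := h0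
    rw [hg, sub_zero] at h1
    exact Ideal.Quotient.eq_zero_iff_mem.1 h1
  have hx := AdicSmooth.mem_mul_of_forall_mem_sup_pow _ (Ideal.mul_le_right.trans hIm) key
  exact hx

/-- The retraction near a prime where the quotient is adically formally smooth. -/
theorem exists_split_of_adicFS {R P S : Type u} [CommRing R] [CommRing P] [IsNoetherianRing P] [CommRing S]
    [Algebra R P] [Algebra R S] [Module.Projective P Ω[P⁄R]] (π : P →ₐ[R] S) (hπ : Function.Surjective π)
    (p : Ideal S) [p.IsPrime]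
    (h : CAlgX.IsAdicFormallySmooth R (Localization.AtPrime p) (maximalIdeal (Localization.AtPrime p))) :
    ∃ f, π f ∉ p ∧ ∃ ψ : Ω[P⁄R] →ₗ[P] P, (∀ w, ψ w ∈ RingHom.ker π.toRingHom) ∧
      ∀ y ∈ RingHom.ker π.toRingHom, ψ (D R P y) - f * y ∈ RingHom.ker π.toRingHom * RingHom.ker π.toRingHom := by
  let Q : Ideal P := p.comap π.toRingHom
  let L := Localization.AtPrime Q
  let T := Localization.AtPrime p
  let fl : L →+* T := Localization.localRingHom Q p π.toRingHom rfl
  letI : Algebra L T := fl.toAlgebra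
  letI : Algebra P T := ((algebraMap S T).comp π.toRingHom).toAlgebra
  haveI : IsScalarTower P L T := .of_algebraMap_eq fun x => (Localization.localRingHom_to_map _ _ _ rfl x).symm
  haveI : IsScalarTower R L T := .of_algebraMap_eq fun r => by
    rw [RingHom.algebraMap_toAlgebra, IsScalarTower.algebraMap_apply R P L, Localization.localRingHom_to_map,
      IsScalarTower.algebraMap_apply R S T]
    exact congrArg _ (π.commutes r).symm
  haveI : IsNoetherianRing L := IsLocalization.isNoetherianRing Q.primeCompl _ inferInstance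
  have hsurjL : Function.Surjective (algebraMap L T) := fun y => by
    obtain ⟨a, ⟨s, hs⟩, rfl⟩ := IsLocalization.exists_mk'_eq p.primeCompl y
    obtain ⟨a', rfl⟩ := hπ a
    obtain ⟨s', rfl⟩ := hπ s
    exact ⟨IsLocalization.mk' L a' (⟨s', hs⟩ : Q.primeCompl), Localization.localRingHom_mk' _ _ _ _ _ _⟩
  have hkerκ : ∀ x : P, algebraMap P (ResidueField T) x = 0 ↔ x ∈ Q := fun x => by
    rw [IsScalarTower.algebraMap_apply P T (ResidueField T)]
    exact (residue_eq_zero_iff _).trans (IsLocalization.AtPrime.to_map_mem_maximal_iff T p (π x))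
  refine (exists_split (RingHom.ker π.toRingHom) Q (fun y hy => by
    show π y ∈ p; rw [show π y = 0 from hy]; exact p.zero_mem) (ResidueField T) hkerκ (fun c => ?_) fun y hy h0 => ?_).imp
    fun f hf => hf
  · obtain ⟨z, rfl⟩ := residue_surjective c
    obtain ⟨l, rfl⟩ := hsurjL z
    obtain ⟨a, ⟨t, ht⟩, rfl⟩ := IsLocalization.exists_mk'_eq Q.primeCompl l
    refine ⟨a, t, ht, ?_⟩
    rw [IsScalarTower.algebraMap_apply P T (ResidueField T) t, IsScalarTower.algebraMap_apply P T (ResidueField T) a,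
      IsScalarTower.algebraMap_apply P L T t, IsScalarTower.algebraMap_apply P L T a]
    show residue T (algebraMap L T (IsLocalization.mk' L a ⟨t, ht⟩)) * residue T (algebraMap L T (algebraMap P L t)) = _
    rw [← map_mul, ← map_mul, IsLocalization.mk'_spec L a (⟨t, ht⟩ : Q.primeCompl)]
    rfl
  · let lm : ResidueField T ⊗[P] Ω[P⁄R] →ₗ[P] ResidueField T ⊗[L] Ω[L⁄R] := TensorProduct.lift
      (((TensorProduct.mk L (ResidueField T) Ω[L⁄R]).restrictScalars₁₂ P P).compl₂ (KaehlerDifferential.map R R P L))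
    have h1 : (1 : ResidueField T) ⊗ₜ[L] D R L (algebraMap P L y) = 0 := by
      have h2 := congrArg lm h0
      rw [map_zero] at h2
      simpa [lm, KaehlerDifferential.map_D] using h2
    have hy' : algebraMap P L y ∈ RingHom.ker (algebraMap L T) := by
      show algebraMap L T (algebraMap P L y) = 0
      rw [← IsScalarTower.algebraMap_apply]
      show algebraMap S T (π y) = 0
      rw [show π y = 0 from hy, map_zero]
    have h3 := mem_mul_of_tensor_eq_zero hsurjL h ⟨_, hy'⟩ h1
    have h4 : RingHom.ker (algebraMap L T) ≤ (RingHom.ker π.toRingHom).map (algebraMap P L) := by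
      intro l hl
      obtain ⟨a, ⟨t, ht⟩, rfl⟩ := IsLocalization.exists_mk'_eq Q.primeCompl l
      have h5 : algebraMap S T (π a) = 0 := by
        have h6 : algebraMap L T (algebraMap P L a) = 0 := by
          rw [← IsLocalization.mk'_spec L a (⟨t, ht⟩ : Q.primeCompl), map_mul, show algebraMap L T _ = 0 from hl, zero_mul]
        rwa [← IsScalarTower.algebraMap_apply] at h6
      obtain ⟨⟨u, hu⟩, hu'⟩ := (IsLocalization.map_eq_zero_iff p.primeCompl T _).1 h5
      obtain ⟨u', rfl⟩ := hπ u
      rw [IsLocalization.mk'_mem_map_algebraMap_iff]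
      exact ⟨u', hu, by show π (u' * a) = 0; rw [map_mul]; exact hu'⟩
    have h7 : algebraMap P L y ∈ (Q * RingHom.ker π.toRingHom).map (algebraMap P L) := by
      rw [Ideal.map_mul, Localization.AtPrime.map_eq_maximalIdeal]
      exact Ideal.mul_mono_right h4 h3
    rw [IsLocalization.algebraMap_mem_map_algebraMap_iff Q.primeCompl] at h7
    exact h7

end Groth.Agent.SepFT3
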